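import Groth.Agent.PolLib.Points
import Groth.Agent.PolLib.DetLaw
import Groth.Agent.TraceEtale.Basic
import Mathlib.RingTheory.TotallySplit

/-!
# Laws of maximal support on a finite étale algebra

A multiplicative law of degree `d` on a finite étale algebra of rank `d` whose kernel is nil is
determined: after a splitting cover it is the product of the coordinates.
-/

set_option autoImplicit false
universe u

open scoped TensorProduct
open Polynomial

namespace Groth.Agent.ZBEtNorm

open Groth.Agent.PolLib

/-- Orthogonal idempotents with sum one decompose products. -/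
theorem prod_smul_idem {R M : Type u} [CommRing R] [CommRing M] [Algebra R M] {ι : Type*} [Fintype ι]
    (E : ι → M) (hmul : ∀ i l, i ≠ l → E i * E l = 0) (hidem : ∀ i, E i * E i = E i)
    (hsum : ∑ i, E i = 1) (c : ι → R) :
    ∏ i, (c i • E i + (1 - E i)) = ∑ i, c i • E i := by
  classical
  have key : ∀ l, (∏ i, (c i • E i + (1 - E i))) * E l = c l • E l := by
    intro l
    have h1 : ∀ s : Finset ι, l ∉ s → (∏ i ∈ s, (c i • E i + (1 - E i))) * E l = E l := by
      intro s hs
      induction s using Finset.induction_on with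
      | empty => simp
      | insert i s his ih =>
        rw [Finset.mem_insert, not_or] at hs
        rw [Finset.prod_insert his, mul_assoc, ih hs.2, add_mul, smul_mul_assoc,
          hmul i l (Ne.symm hs.1), smul_zero, zero_add, sub_mul, one_mul, hmul i l (Ne.symm hs.1), sub_zero]
    rw [← Finset.mul_prod_erase _ _ (Finset.mem_univ l), mul_assoc,
      h1 _ (Finset.notMem_erase l _), add_mul, smul_mul_assoc, hidem, sub_mul, one_mul, hidem,
      sub_self, add_zero]
  calc ∏ i, (c i • E i + (1 - E i)) = (∏ i, (c i • E i + (1 - E i))) * ∑ i, E i := by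
        rw [hsum, mul_one]
    _ = _ := by rw [Finset.mul_sum]; exact Finset.sum_congr rfl fun l _ => key l

variable {A B : Type u} [CommRing A] [CommRing B] [Algebra A B]

section Split

variable {T : Type u} [CommRing T] [Algebra A T] {m : ℕ} (e : T ⊗[A] B ≃ₐ[T] (Fin m → T))
  {R : Type u} [CommRing R] [Algebra A R] (ψ : T →ₐ[A] R)

/-- The `i`-th section. -/
noncomputable def pt (i : Fin m) : B →ₐ[A] T :=
  ((Pi.evalAlgHom T (fun _ => T) i).comp e.toAlgHom).restrictScalars A |>.comp
    Algebra.TensorProduct.includeRight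

/-- The `i`-th idempotent in a test algebra over the cover. -/
noncomputable def idem (i : Fin m) : R ⊗[A] B := rB B ψ (e.symm (Pi.single i 1))

theorem idem_orth {i l : Fin m} (h : i ≠ l) : idem e ψ i * idem e ψ l = 0 := by
  rw [idem, idem, ← map_mul, ← map_mul]
  have : (Pi.single i 1 * Pi.single l 1 : Fin m → T) = 0 := by
    funext k
    simp only [Pi.mul_apply, Pi.zero_apply, Pi.single_apply]
    split_ifs with h1 h2 <;> simp_all
  rw [this, map_zero, map_zero]

theorem idem_sq (i : Fin m) : idem e ψ i * idem e ψ i = idem e ψ i := by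
  rw [idem, ← map_mul, ← map_mul]
  congr 2
  funext k
  by_cases h : k = i <;> simp [h]

theorem idem_sum : ∑ i, idem e ψ i = 1 := by
  simp only [idem, ← map_sum]
  rw [show (∑ i, Pi.single i (1 : T) : Fin m → T) = 1 from Finset.univ_sum_single (fun _ => (1 : T)),
    map_one, map_one]

theorem mu_rB_pt (i : Fin m) (u : T ⊗[A] B) :
    mu (ψ.comp (pt e i)) (rB B ψ u) = ψ (e u i) := by
  induction u using TensorProduct.induction_on with
  | zero => simp
  | add a b ha hb => rw [map_add, map_add, ha, hb, map_add, Pi.add_apply, map_add]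
  | tmul t b =>
    rw [rB_tmul, mu_tmul, AlgHom.comp_apply, ← map_mul]
    congr 1
    show t * e ((1 : T) ⊗ₜ[A] b) i = e (t ⊗ₜ[A] b) i
    rw [show t ⊗ₜ[A] b = t • ((1 : T) ⊗ₜ[A] b) by rw [TensorProduct.smul_tmul', smul_eq_mul, mul_one],
      map_smul, Pi.smul_apply, smul_eq_mul]

theorem exists_coords (w : R ⊗[A] B) : ∃ c : Fin m → R, w = ∑ i, c i • idem e ψ i := by
  induction w using TensorProduct.induction_on with
  | zero => exact ⟨0, by simp⟩
  | add a b ha hb =>
    obtain ⟨c, rfl⟩ := ha
    obtain ⟨c', rfl⟩ := hb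
    exact ⟨c + c', by simp [add_smul, Finset.sum_add_distrib]⟩
  | tmul r b =>
    refine ⟨fun i => r * ψ (e ((1 : T) ⊗ₜ[A] b) i), ?_⟩
    have h : (1 : T) ⊗ₜ[A] b = ∑ i, e ((1 : T) ⊗ₜ[A] b) i • e.symm (Pi.single i 1) := by
      apply e.injective
      rw [map_sum]
      simp only [map_smul, AlgEquiv.apply_symm_apply]
      funext k
      simp [Pi.single_apply, Finset.sum_apply]
    have h2 := congrArg (rB B ψ) h
    rw [rB_tmul, map_one, map_sum] at h2
    rw [show r ⊗ₜ[A] b = r • ((1 : R) ⊗ₜ[A] b) by rw [TensorProduct.smul_tmul', smul_eq_mul, mul_one],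
      h2, Finset.smul_sum]
    exact Finset.sum_congr rfl fun i _ => by rw [rB_smul, smul_smul]; rfl

variable {d : ℕ} (F : PolLaw.MulLaw A B A d)

/-- The value on one idempotent. -/
noncomputable def P (i : Fin m) : R[X] :=
  evl F (Algebra.ofId A R[X])
    ((X : R[X]) • rB B (IsScalarTower.toAlgHom A R R[X]) (idem e ψ i) +
      (1 - rB B (IsScalarTower.toAlgHom A R R[X]) (idem e ψ i)))

theorem evl_eq_map_P (i : Fin m) {R' : Type u} [CommRing R'] [Algebra A R'] (φ : R[X] →ₐ[A] R') :
    evl F (Algebra.ofId A R')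
      (φ X • rB B (φ.comp (IsScalarTower.toAlgHom A R R[X])) (idem e ψ i) +
        (1 - rB B (φ.comp (IsScalarTower.toAlgHom A R R[X])) (idem e ψ i))) = φ (P e ψ F i) := by
  rw [P, ← evl_nat' F (Algebra.ofId A R[X]) φ (Subsingleton.elim _ _), map_add, map_sub, map_one,
    rB_smul, rB_rB]

variable (hd : m = d) (hker : PolLaw.ker F.law ≤ nilradical B)

include hd hker in
/-- At a geometric point the idempotent value is `X`. -/
theorem map_P_eq_X {L : Type u} [Field L] [IsAlgClosed L] [Algebra A L] (θ : R →ₐ[A] L) (i : Fin m) :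
    Polynomial.mapAlgHom θ (P e ψ F i) = X := by
  classical
  obtain ⟨x, hx⟩ := exists_points F (Algebra.ofId A L)
  let y : Fin m → (B →ₐ[A] L) := fun l => (θ.comp ψ).comp (pt e l)
  have hy : ∀ l, ∃ k, y l = x k := fun l => point_eq_of_kills_ker hx (y l) fun b hb => by
    obtain ⟨n, hn⟩ := hker hb
    refine eq_zero_of_pow_eq_zero (n := n) ?_
    rw [← map_pow, hn, map_zero]
  choose κ hκ using hy
  have hval : ∀ l k, mu (y l) (rB B (θ.comp ψ) (e.symm (Pi.single k 1))) =
      if l = k then (1 : L) else 0 := fun l k => by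
    rw [mu_rB_pt, AlgEquiv.apply_symm_apply, Pi.single_apply]
    split_ifs <;> simp
  have hinj : Function.Injective κ := fun l l' h => by
    by_contra hne
    have h1 := hval l l
    rw [hκ l, h, ← hκ l', hval l' l, if_pos rfl, if_neg (Ne.symm hne)] at h1
    exact zero_ne_one h1
  have hbij : Function.Bijective κ :=
    (Fintype.bijective_iff_injective_and_card κ).mpr ⟨hinj, by simp [hd]⟩
  let φ : R[X] →ₐ[A] L[X] := Polynomial.mapAlgHom θ
  let j : L →ₐ[A] L[X] := IsScalarTower.toAlgHom A L L[X]
  have hφ : φ.comp (IsScalarTower.toAlgHom A R R[X]) = j.comp θ := by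
    ext r; simp [φ, j]
  have h := evl_eq_map_P e ψ F i φ
  rw [hφ, show φ X = (X : L[X]) from by simp [φ],
    show Algebra.ofId A L[X] = j.comp (Algebra.ofId A L) from Subsingleton.elim _ _, hx L[X] j,
    ← hbij.prod_comp] at h
  rw [← h, Finset.prod_eq_single i]
  · rw [← hκ, map_add, map_sub, map_one, map_smul, idem, rB_rB, AlgHom.comp_assoc,
      show j.comp ((θ.comp ψ).comp (pt e i)) = (j.comp (θ.comp ψ)).comp (pt e i) from
        (AlgHom.comp_assoc _ _ _).symm, mu_rB_pt, AlgEquiv.apply_symm_apply, Pi.single_eq_same,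
      map_one, sub_self, add_zero, smul_eq_mul, mul_one]
  · intro l _ hl
    rw [← hκ, map_add, map_sub, map_one, map_smul, idem, rB_rB, AlgHom.comp_assoc,
      show j.comp ((θ.comp ψ).comp (pt e l)) = (j.comp (θ.comp ψ)).comp (pt e l) from
        (AlgHom.comp_assoc _ _ _).symm, mu_rB_pt, AlgEquiv.apply_symm_apply,
      Pi.single_eq_of_ne hl, map_zero, smul_zero, zero_add, sub_zero]
  · simp

include hd hker in
theorem P_eq_X (i : Fin m) : P e ψ F i = X := by
  classical
  set p := P e ψ F i with hp
  have hpt : ∀ (Q : Ideal R) [Q.IsPrime] (k : ℕ), p.coeff k - (X : R[X]).coeff k ∈ Q := by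
    intro Q _ k
    let L := AlgebraicClosure Q.ResidueField
    let θ : R →ₐ[A] L := IsScalarTower.toAlgHom A R L
    have hθ : RingHom.ker θ = Q := by
      show RingHom.ker (algebraMap R L) = Q
      rw [IsScalarTower.algebraMap_eq R Q.ResidueField L, RingHom.ker_comp_of_injective _
        (RingHom.injective _), Ideal.ker_algebraMap_residueField]
    rw [← hθ, RingHom.mem_ker, map_sub]
    have := congrArg (fun q : L[X] => q.coeff k) (map_P_eq_X e ψ F hd hker θ i)
    simp only [Polynomial.coe_mapAlgHom, Polynomial.coeff_map] at this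
    rw [show θ (p.coeff k) = (X : L[X]).coeff k from this]
    simp [Polynomial.coeff_X, apply_ite θ]
  have hnil : ∀ k, IsNilpotent (p.coeff k - (X : R[X]).coeff k) := fun k => by
    rw [← mem_nilradical, nilradical_eq_sInf, Ideal.mem_sInf]
    exact fun {Q} hQ => @hpt Q hQ k
  -- multiplicativity makes the coefficients orthogonal idempotents
  let c₁ : R[X] →ₐ[A] R[X][X] :=
    ((Polynomial.aeval (C (X : R[X]) : R[X][X])).restrictScalars A)
  let c₂ : R[X] →ₐ[A] R[X][X] := ((Polynomial.aeval (X : R[X][X])).restrictScalars A)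
  let c₃ : R[X] →ₐ[A] R[X][X] :=
    ((Polynomial.aeval (C (X : R[X]) * X : R[X][X])).restrictScalars A)
  have hbase : ∀ t : R[X][X], ((Polynomial.aeval t).restrictScalars A).comp
      (IsScalarTower.toAlgHom A R R[X]) = IsScalarTower.toAlgHom A R R[X][X] := fun t => by
    ext r; simp
  have hmul : c₁ p * c₂ p = c₃ p := by
    rw [hp, ← evl_eq_map_P e ψ F i c₁, ← evl_eq_map_P e ψ F i c₂, ← evl_eq_map_P e ψ F i c₃,
      ← evl_mul]
    simp only [c₁, c₂, c₃, hbase, AlgHom.coe_restrictScalars', Polynomial.aeval_X]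
    set E := rB B (IsScalarTower.toAlgHom A R R[X][X]) (idem e ψ i)
    have hEE : E * E = E := by rw [← map_mul, idem_sq]
    congr 1
    simp only [add_mul, mul_add, sub_mul, mul_sub, one_mul, mul_one, smul_mul_assoc, mul_smul_comm,
      smul_smul, hEE, sub_self, add_zero, smul_add, smul_sub, zero_add]
    rw [mul_comm X (C X : R[X][X])]
    abel
  have hc₁ : c₁ p = C p := by
    show Polynomial.aeval (C (X : R[X]) : R[X][X]) p = _
    rw [Polynomial.aeval_def]
    conv_rhs => rw [← Polynomial.sum_C_mul_X_pow_eq p]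
    simp [Polynomial.eval₂_eq_sum, Polynomial.sum, map_sum, map_mul, map_pow]
  have hc₂ : c₂ p = p.map C := by
    show Polynomial.aeval (X : R[X][X]) p = _
    rw [Polynomial.aeval_def]
    conv_rhs => rw [← Polynomial.sum_C_mul_X_pow_eq p]
    simp [Polynomial.eval₂_eq_sum, Polynomial.sum, Polynomial.map_sum]
  have hc₃ : ∀ k, (c₃ p).coeff k = C (p.coeff k) * X ^ k := fun k => by
    show (Polynomial.aeval (C (X : R[X]) * X : R[X][X]) p).coeff k = _
    rw [Polynomial.aeval_def, Polynomial.eval₂_eq_sum, Polynomial.sum, Polynomial.finsetSum_coeff]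
    have hterm : ∀ l, (algebraMap R R[X][X] (p.coeff l) * (C (X : R[X]) * X) ^ l).coeff k =
        if k = l then C (p.coeff l) * X ^ l else 0 := fun l => by
      rw [mul_pow, ← mul_assoc, ← map_pow, IsScalarTower.algebraMap_apply R R[X] R[X][X],
        Polynomial.algebraMap_eq, Polynomial.algebraMap_eq, ← map_mul, Polynomial.coeff_C_mul_X_pow]
    rw [Finset.sum_congr rfl fun l _ => hterm l, Finset.sum_ite_eq]
    split_ifs with h
    · rfl
    · rw [Polynomial.notMem_support_iff.mp h, map_zero, zero_mul]
  have hcoef : ∀ k l, p.coeff l * p.coeff k = if l = k then p.coeff k else 0 := by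
    intro k l
    have := congrArg (fun q : R[X][X] => (q.coeff k).coeff l) hmul
    rw [hc₁, hc₂] at this
    simp only [Polynomial.coeff_C_mul, Polynomial.coeff_map, Polynomial.coeff_mul_C, hc₃,
      Polynomial.coeff_X_pow, mul_ite, mul_one, mul_zero] at this
    exact this
  have hz : ∀ k, k ≠ 1 → p.coeff k = 0 := fun k hk => by
    have h := hnil k
    rw [Polynomial.coeff_X_of_ne_one hk, sub_zero] at h
    obtain ⟨n, hn⟩ := h
    have hidem : IsIdempotentElem (p.coeff k) := by
      show p.coeff k * p.coeff k = p.coeff k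
      rw [hcoef, if_pos rfl]
    rcases n with _ | n
    · have : (1 : R) = 0 := by simpa using hn
      exact eq_zero_of_zero_eq_one this.symm _
    · rwa [hidem.pow_succ_eq] at hn
  have h1 : p.coeff 1 = 1 := by
    have h := hnil 1
    rw [Polynomial.coeff_X_one] at h
    have hu : IsUnit (p.coeff 1) := by
      have := h.isUnit_one_add
      rwa [add_sub_cancel] at this
    exact hu.mul_left_cancel (by rw [hcoef 1 1, if_pos rfl, mul_one])
  refine Polynomial.ext fun k => ?_
  by_cases hk : k = 1
  · rw [hk, h1, Polynomial.coeff_X_one]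
  · rw [hz k hk, Polynomial.coeff_X_of_ne_one hk]

include hd hker in
theorem evl_eq_prod_coords (c : Fin m → R) :
    evl F (Algebra.ofId A R) (∑ i, c i • idem e ψ i) = ∏ i, c i := by
  rw [← prod_smul_idem (idem e ψ) (fun i l h => idem_orth e ψ h) (idem_sq e ψ) (idem_sum e ψ) c,
    evl_prod]
  refine Finset.prod_congr rfl fun i _ => ?_
  have h := evl_eq_map_P e ψ F i ((Polynomial.aeval (c i)).restrictScalars A)
  rw [P_eq_X e ψ F hd hker] at h
  have hid : ((Polynomial.aeval (c i)).restrictScalars A).comp (IsScalarTower.toAlgHom A R R[X]) =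
      AlgHom.id A R := by
    ext r; simp
  simp only [hid, AlgHom.coe_restrictScalars', Polynomial.aeval_X] at h
  have hrB : ∀ w : R ⊗[A] B, rB B (AlgHom.id A R) w = w := fun w => by
    induction w using TensorProduct.induction_on with
    | zero => simp
    | tmul a b => simp
    | add a b ha hb => simp [ha, hb]
  rwa [hrB] at h

end Split

variable [Module.Free A B] [Module.Finite A B] [Algebra.Etale A B]

/-- Two laws of degree equal to the rank with nil kernels agree. -/
theorem eq_of_ker_le {d : ℕ} (hd : Module.finrank A B = d) (F G : PolLaw.MulLaw A B A d)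
    (hF : PolLaw.ker F.law ≤ nilradical B) (hG : PolLaw.ker G.law ≤ nilradical B) : F = G := by
  rcases subsingleton_or_nontrivial A with hA | hA
  · refine mulLaw_ext fun S _ _ x => ?_
    haveI : Subsingleton (S ⊗[A] A) := Module.subsingleton A _
    exact Subsingleton.elim _ _
  have hrank : Module.rankAtStalk (R := A) B = d := by
    rw [Module.rankAtStalk_eq_finrank_of_free, hd]
  obtain ⟨T, _, _, _, _, _, hsplit⟩ := Algebra.IsFiniteSplit.exists_tensorProduct_of_etale hrank
  obtain ⟨m, ⟨e⟩⟩ := hsplit.nonempty_algEquiv_fun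
  haveI : Nontrivial T := (FaithfulSMul.algebraMap_injective A T).nontrivial
  have hm : m = d := by
    have := e.toLinearEquiv.finrank_eq
    rw [Module.finrank_baseChange, Module.finrank_fin_fun, hd] at this
    exact this.symm
  refine mulLaw_ext fun S _ _ x => ?_
  apply (Algebra.TensorProduct.rid A S S).injective
  let R := S ⊗[A] T
  let ι : S →ₐ[A] R := Algebra.TensorProduct.includeLeft
  let ψ : T →ₐ[A] R := Algebra.TensorProduct.includeRight
  have hinj : Function.Injective ι := by
    haveI : Module.FaithfullyFlat S R := inferInstance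
    exact FaithfulSMul.algebraMap_injective S R
  have key : ∀ H : PolLaw.MulLaw A B A d,
      (Algebra.TensorProduct.rid A S S) (ev H S x) = evl H (Algebra.ofId A S) x := fun H => by
    rw [evl]
    generalize ev H S x = y
    induction y using TensorProduct.induction_on with
    | zero => simp
    | tmul a b =>
      rw [mu_tmul, Algebra.TensorProduct.rid_tmul, Algebra.smul_def, mul_comm]
      rfl
    | add a b ha hb => simp only [map_add, ha, hb]
  rw [key, key]
  apply hinj
  rw [← evl_nat' F _ ι (Subsingleton.elim _ (Algebra.ofId A R)),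
    ← evl_nat' G _ ι (Subsingleton.elim _ (Algebra.ofId A R))]
  obtain ⟨c, hc⟩ := exists_coords e ψ (rB B ι x)
  rw [hc, evl_eq_prod_coords e ψ F hm hF, evl_eq_prod_coords e ψ G hm hG]

/-- The norm law has trivial kernel. -/
theorem ker_eq_bot {d : ℕ} (N : PolLaw.MulLaw A B A d)
    (hN : ∀ (S : Type u) [CommRing S] [Algebra A S] (x : S ⊗[A] B),
      N.law.toFun' S x = Algebra.norm S x ⊗ₜ[A] (1 : A)) : PolLaw.ker N.law = ⊥ := by
  classical
  refine eq_bot_iff.mpr fun b hb => Ideal.mem_bot.mpr ?_
  apply ((TraceEtale.etale_iff_bijective_traceForm A B).mp inferInstance).1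
  rw [map_zero]
  ext c
  have h := hb A[X] 1 ((X : A[X]) ⊗ₜ[A] c)
  rw [(N.mult A[X]).1, Algebra.TensorProduct.tmul_mul_tmul, mul_one, hN] at h
  have h1 : Algebra.norm A[X] (1 + (X : A[X]) ⊗ₜ[A] (c * b)) = 1 := by
    simpa using congrArg (Algebra.TensorProduct.rid A A[X] A[X]) h
  let β := Module.Free.chooseBasis A B
  rw [Algebra.norm_eq_matrix_det (β.baseChange A[X]), map_add, map_one] at h1
  have hmat : Algebra.leftMulMatrix (β.baseChange A[X]) ((X : A[X]) ⊗ₜ[A] (c * b)) =
      (X : A[X]) • (Algebra.leftMulMatrix β (c * b)).map C := by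
    ext i j
    rw [Matrix.smul_apply, Matrix.map_apply, Algebra.leftMulMatrix_eq_repr_mul,
      Algebra.leftMulMatrix_eq_repr_mul, Module.Basis.baseChange_apply,
      Algebra.TensorProduct.tmul_mul_tmul, mul_one, Module.Basis.baseChange_repr_tmul,
      Algebra.smul_def, smul_eq_mul, mul_comm]
    rfl
  rw [hmat] at h1
  have h2 := Matrix.coeff_det_one_add_X_smul_one (Algebra.leftMulMatrix β (c * b))
  rw [h1, Polynomial.coeff_one, if_neg one_ne_zero, ← Algebra.trace_eq_matrix_trace β] at h2
  rw [Algebra.traceForm_apply, mul_comm, ← h2]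
  rfl

end Groth.Agent.ZBEtNorm
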